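import Mathlib
import Groth.Prelude.Def_VecGrp
import Groth.Prelude.Def_HopfRep

set_option autoImplicit false
universe u
open CategoryTheory MonObj GrpObj AlgebraicGeometry TensorProduct

namespace Groth.Agent.H1.GModComod

section Points
variable {R : Type u} [CommRing R] {A : Type u} [CommRing A] [HopfAlgebra R A]
variable {B B' : Type u} [CommRing B] [Algebra R B] [CommRing B'] [Algebra R B']

/-- the algebra map of a point -/
noncomputable def fOf
    (g : VecGrp.pt R B ⟶ ((Spec (CommRingCat.of A)).asOver (Spec (CommRingCat.of R)))) :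
    A →ₐ[R] B :=
  (Spec.mapMulEquiv.symm g).ofConv

/-- the point of an algebra map -/
noncomputable def gOf (f : A →ₐ[R] B) :
    VecGrp.pt R B ⟶ ((Spec (CommRingCat.of A)).asOver (Spec (CommRingCat.of R))) :=
  Spec.mapMulEquiv (WithConv.toConv f)

lemma fOf_gOf (f : A →ₐ[R] B) : fOf (gOf f) = f := by
  simp [fOf, gOf]

lemma gOf_fOf (g : VecGrp.pt R B ⟶ ((Spec (CommRingCat.of A)).asOver (Spec (CommRingCat.of R)))) :
    gOf (fOf g) = g :=
  MulEquiv.apply_symm_apply Spec.mapMulEquiv g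

lemma gOf_comp (φ : B →ₐ[R] B') (f : A →ₐ[R] B) :
    gOf (φ.comp f) = VecGrp.ptMap φ ≫ gOf f := by
  apply Over.OverMorphism.ext
  show Spec.map (CommRingCat.ofHom (φ.comp f).toRingHom) =
    Spec.map (CommRingCat.ofHom φ.toRingHom) ≫ Spec.map (CommRingCat.ofHom f.toRingHom)
  rw [← Spec.map_comp, ← CommRingCat.ofHom_comp]
  rfl

lemma fOf_comp (φ : B →ₐ[R] B')
    (g : VecGrp.pt R B ⟶ ((Spec (CommRingCat.of A)).asOver (Spec (CommRingCat.of R)))) :
    fOf (VecGrp.ptMap φ ≫ g) = φ.comp (fOf g) := by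
  conv_lhs => rw [← gOf_fOf g, ← gOf_comp, fOf_gOf]

lemma fOf_mul
    (g h : VecGrp.pt R B ⟶ ((Spec (CommRingCat.of A)).asOver (Spec (CommRingCat.of R)))) :
    fOf (g * h) = (WithConv.toConv (fOf g) * WithConv.toConv (fOf h)).ofConv :=
  congrArg WithConv.ofConv (map_mul (Spec.mapMulEquiv (R := R) (S := A) (T := B)).symm g h)

lemma fOf_one :
    fOf (1 : VecGrp.pt R B ⟶ ((Spec (CommRingCat.of A)).asOver (Spec (CommRingCat.of R)))) =
      (1 : WithConv (A →ₐ[R] B)).ofConv :=
  congrArg WithConv.ofConv (map_one (Spec.mapMulEquiv (R := R) (S := A) (T := B)).symm)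

end Points


section Sw
variable {R : Type u} [CommRing R] {A : Type u} [CommRing A] [Algebra R A]
variable {E : Type u} [AddCommGroup E] [Module R E]
variable {B B' : Type u} [CommRing B] [Algebra R B] [CommRing B'] [Algebra R B']

/-- `e ⊗ a ↦ f a ⊗ e` -/
noncomputable def sw (f : A →ₐ[R] B) : E ⊗[R] A →ₗ[R] B ⊗[R] E :=
  (TensorProduct.comm R E B).toLinearMap ∘ₗ f.toLinearMap.lTensor E

@[simp] lemma sw_tmul (f : A →ₐ[R] B) (e : E) (a : A) :
    sw f (e ⊗ₜ[R] a) = f a ⊗ₜ[R] e := rfl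

lemma comm_comm' (t : E ⊗[R] A) :
    TensorProduct.comm R A E (TensorProduct.comm R E A t) = t := by
  induction t using TensorProduct.induction_on with
  | zero => simp
  | tmul e a => rfl
  | add x y hx hy => simp only [map_add, hx, hy]

lemma sw_id (t : E ⊗[R] A) : sw (AlgHom.id R A) t = TensorProduct.comm R E A t := by
  induction t using TensorProduct.induction_on with
  | zero => simp
  | tmul e a => rfl
  | add x y hx hy => simp only [map_add, hx, hy]

lemma Wmap_sw (φ : B →ₐ[R] B') (f : A →ₐ[R] B) (t : E ⊗[R] A) :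
    VecGrp.Wmap φ (sw f t) = sw (φ.comp f) t := by
  induction t using TensorProduct.induction_on with
  | zero => simp
  | tmul e a => rfl
  | add x y hx hy => simp only [map_add, hx, hy]

lemma Wmap_eq_sw (f : A →ₐ[R] B) (y : A ⊗[R] E) :
    VecGrp.Wmap f y = sw f (TensorProduct.comm R A E y) := by
  induction y using TensorProduct.induction_on with
  | zero => simp
  | tmul a e => rfl
  | add x y hx hy => simp only [map_add, hx, hy]

/-- the `B`-linear endomorphism of `B ⊗ E` attached to a coaction and a point -/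
noncomputable def theta (δ : E →ₗ[R] E ⊗[R] A) (f : A →ₐ[R] B) :
    B ⊗[R] E →ₗ[B] B ⊗[R] E :=
  LinearMap.liftBaseChange B (sw f ∘ₗ δ)

lemma theta_tmul (δ : E →ₗ[R] E ⊗[R] A) (f : A →ₐ[R] B) (b : B) (x : E) :
    theta δ f (b ⊗ₜ[R] x) = b • sw f (δ x) := rfl

lemma Wmap_theta (δ : E →ₗ[R] E ⊗[R] A) (φ : B →ₐ[R] B') (f : A →ₐ[R] B) (y : B ⊗[R] E) :
    VecGrp.Wmap φ (theta δ f y) = theta δ (φ.comp f) (VecGrp.Wmap φ y) := by
  induction y using TensorProduct.induction_on with
  | zero => simp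
  | tmul b x =>
    rw [theta_tmul, VecGrp.Wmap_smul, Wmap_sw, VecGrp.Wmap_tmul, theta_tmul]
  | add x y hx hy => simp only [map_add, hx, hy]

lemma smul_sw (f g : A →ₐ[R] B) (a : A) (s : E ⊗[R] A) :
    g a • sw f s = sw (Algebra.TensorProduct.lift f g (fun _ _ => Commute.all _ _))
      (TensorProduct.assoc R E A A (s ⊗ₜ[R] a)) := by
  induction s using TensorProduct.induction_on with
  | zero => simp
  | tmul e a' =>
    simp only [sw_tmul, TensorProduct.assoc_tmul, Algebra.TensorProduct.lift_tmul,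
      TensorProduct.smul_tmul', smul_eq_mul, mul_comm]
  | add x y hx hy => simp only [map_add, smul_add, TensorProduct.add_tmul, hx, hy]

lemma theta_sw (δ : E →ₗ[R] E ⊗[R] A) (f g : A →ₐ[R] B) (t : E ⊗[R] A) :
    theta δ f (sw g t) = sw (Algebra.TensorProduct.lift f g (fun _ _ => Commute.all _ _))
      (TensorProduct.assoc R E A A (δ.rTensor A t)) := by
  induction t using TensorProduct.induction_on with
  | zero => simp
  | tmul e a =>
    rw [sw_tmul, theta_tmul, LinearMap.rTensor_tmul, smul_sw]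
  | add x y hx hy => simp only [map_add, hx, hy]

lemma GMod_ext {G : Over (Spec (CommRingCat.of R))} [GrpObj G] (m m' : VecGrp.GMod G E)
    (h : ∀ (B : Type u) [CommRing B] [Algebra R B] (g : VecGrp.pt R B ⟶ G) (x : E),
      m.ρ B g ((1 : B) ⊗ₜ[R] x) = m'.ρ B g ((1 : B) ⊗ₜ[R] x)) : m = m' := by
  cases m with
  | mk ρ nat =>
  cases m' with
  | mk ρ' nat' =>
  have : ρ = ρ' := by
    funext B _ _
    apply MonoidHom.ext; intro g
    apply LinearEquiv.ext; intro y
    induction y using TensorProduct.induction_on with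
    | zero => simp
    | tmul b x =>
      have hb : b ⊗ₜ[R] x = b • ((1 : B) ⊗ₜ[R] x) := by
        rw [TensorProduct.smul_tmul', smul_eq_mul, _root_.mul_one]
      rw [hb, map_smul, map_smul]
      exact congrArg _ (h B g x)
    | add x y hx hy => simp only [map_add, hx, hy]
  subst this
  rfl

end Sw

section Hopf
variable {R : Type u} [CommRing R] {A : Type u} [CommRing A] [HopfAlgebra R A]
variable {E : Type u} [AddCommGroup E] [Module R E]
variable {B B' : Type u} [CommRing B] [Algebra R B] [CommRing B'] [Algebra R B']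

lemma sw_one (t : E ⊗[R] A) :
    sw (1 : WithConv (A →ₐ[R] B)).ofConv t =
      TensorProduct.comm R E B ((Algebra.linearMap R B).lTensor E
        ((CoalgebraStruct.counit (R := R) (A := A)).lTensor E t)) := by
  induction t using TensorProduct.induction_on with
  | zero => simp
  | tmul e a => rfl
  | add x y hx hy => simp only [map_add, hx, hy]

lemma sw_mul (f g : A →ₐ[R] B) (t : E ⊗[R] A) :
    sw (WithConv.toConv f * WithConv.toConv g).ofConv t =
      sw (Algebra.TensorProduct.lift f g (fun _ _ => Commute.all _ _))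
        ((CoalgebraStruct.comul (R := R) (A := A)).lTensor E t) := by
  induction t using TensorProduct.induction_on with
  | zero => simp
  | tmul e a =>
    rw [LinearMap.lTensor_tmul, sw_tmul, sw_tmul]
    congr 1
    exact AlgHom.convMul_apply (WithConv.toConv f) (WithConv.toConv g) a
  | add x y hx hy => simp only [map_add, hx, hy]

lemma theta_one (δ : E →ₗ[R] E ⊗[R] A)
    (hcu : (CoalgebraStruct.counit (R := R) (A := A)).lTensor E ∘ₗ δ =
      (TensorProduct.mk R E R).flip 1) :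
    theta δ (1 : WithConv (A →ₐ[R] B)).ofConv = LinearMap.id := by
  refine TensorProduct.AlgebraTensorModule.ext fun b x => ?_
  have h : (CoalgebraStruct.counit (R := R) (A := A)).lTensor E (δ x) = x ⊗ₜ[R] (1 : R) :=
    LinearMap.congr_fun hcu x
  rw [theta_tmul, sw_one, h]
  simp [TensorProduct.smul_tmul']

lemma theta_mul (δ : E →ₗ[R] E ⊗[R] A)
    (hco : (TensorProduct.assoc R E A A).toLinearMap ∘ₗ δ.rTensor A ∘ₗ δ =
      (CoalgebraStruct.comul (R := R) (A := A)).lTensor E ∘ₗ δ)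
    (f g : A →ₐ[R] B) :
    theta δ (WithConv.toConv f * WithConv.toConv g).ofConv = theta δ f ∘ₗ theta δ g := by
  refine TensorProduct.AlgebraTensorModule.ext fun b x => ?_
  have h : TensorProduct.assoc R E A A (δ.rTensor A (δ x)) =
      (CoalgebraStruct.comul (R := R) (A := A)).lTensor E (δ x) :=
    LinearMap.congr_fun hco x
  rw [LinearMap.comp_apply, theta_tmul, theta_tmul, map_smul, theta_sw, sw_mul, h]

/-- the monoid homomorphism `f ↦ theta δ f` -/
noncomputable def thetaHom (δ : E →ₗ[R] E ⊗[R] A)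
    (hco : (TensorProduct.assoc R E A A).toLinearMap ∘ₗ δ.rTensor A ∘ₗ δ =
      (CoalgebraStruct.comul (R := R) (A := A)).lTensor E ∘ₗ δ)
    (hcu : (CoalgebraStruct.counit (R := R) (A := A)).lTensor E ∘ₗ δ =
      (TensorProduct.mk R E R).flip 1) (B : Type u) [CommRing B] [Algebra R B] :
    WithConv (A →ₐ[R] B) →* Module.End B (B ⊗[R] E) where
  toFun f := theta δ f.ofConv
  map_one' := theta_one δ hcu
  map_mul' f g := theta_mul δ hco f.ofConv g.ofConv

/-- the `G`-module attached to a comodule structure -/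
noncomputable def mkGMod (δ : E →ₗ[R] E ⊗[R] A)
    (hco : (TensorProduct.assoc R E A A).toLinearMap ∘ₗ δ.rTensor A ∘ₗ δ =
      (CoalgebraStruct.comul (R := R) (A := A)).lTensor E ∘ₗ δ)
    (hcu : (CoalgebraStruct.counit (R := R) (A := A)).lTensor E ∘ₗ δ =
      (TensorProduct.mk R E R).flip 1) :
    VecGrp.GMod ((Spec (CommRingCat.of A)).asOver (Spec (CommRingCat.of R))) E where
  ρ B _ _ := (LinearMap.GeneralLinearGroup.generalLinearEquiv B (B ⊗[R] E)).toMonoidHom.comp
    (((thetaHom δ hco hcu B).comp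
      (Spec.mapMulEquiv (R := R) (S := A) (T := B)).symm.toMonoidHom).toHomUnits)
  naturality {B B'} _ _ _ _ φ g x := by
    show VecGrp.Wmap φ (theta δ (fOf g) x) = theta δ (fOf (VecGrp.ptMap φ ≫ g)) (VecGrp.Wmap φ x)
    rw [fOf_comp]
    exact Wmap_theta δ φ (fOf g) x

lemma mkGMod_apply (δ : E →ₗ[R] E ⊗[R] A)
    (hco : (TensorProduct.assoc R E A A).toLinearMap ∘ₗ δ.rTensor A ∘ₗ δ =
      (CoalgebraStruct.comul (R := R) (A := A)).lTensor E ∘ₗ δ)
    (hcu : (CoalgebraStruct.counit (R := R) (A := A)).lTensor E ∘ₗ δ =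
      (TensorProduct.mk R E R).flip 1)
    (g : VecGrp.pt R B ⟶ ((Spec (CommRingCat.of A)).asOver (Spec (CommRingCat.of R))))
    (y : B ⊗[R] E) :
    (mkGMod δ hco hcu).ρ B g y = theta δ (fOf g) y := rfl

section Part2
variable (m : VecGrp.GMod ((Spec (CommRingCat.of A)).asOver (Spec (CommRingCat.of R))) E)

/-- the coaction attached to a `G`-module -/
noncomputable def deltaOf : E →ₗ[R] E ⊗[R] A :=
  (TensorProduct.comm R A E).toLinearMap ∘ₗ
    ((m.ρ A (gOf (AlgHom.id R A))).toLinearMap.restrictScalars R) ∘ₗ (TensorProduct.mk R A E 1)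

lemma deltaOf_apply (x : E) :
    deltaOf m x = TensorProduct.comm R A E (m.ρ A (gOf (AlgHom.id R A)) ((1 : A) ⊗ₜ[R] x)) := rfl

lemma formula (B : Type u) [CommRing B] [Algebra R B]
    (g : VecGrp.pt R B ⟶ ((Spec (CommRingCat.of A)).asOver (Spec (CommRingCat.of R)))) (x : E) :
    m.ρ B g ((1 : B) ⊗ₜ[R] x) = sw (fOf g) (deltaOf m x) := by
  have hg : VecGrp.ptMap (fOf g) ≫ gOf (AlgHom.id R A) = g := by
    rw [← gOf_comp, AlgHom.comp_id, gOf_fOf]
  have h := m.naturality (fOf g) (gOf (AlgHom.id R A)) ((1 : A) ⊗ₜ[R] x)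
  rw [hg, VecGrp.Wmap_tmul, map_one] at h
  rw [← h, Wmap_eq_sw, deltaOf_apply]

lemma rho_eq_theta (B : Type u) [CommRing B] [Algebra R B]
    (g : VecGrp.pt R B ⟶ ((Spec (CommRingCat.of A)).asOver (Spec (CommRingCat.of R))))
    (y : B ⊗[R] E) : m.ρ B g y = theta (deltaOf m) (fOf g) y := by
  induction y using TensorProduct.induction_on with
  | zero => simp
  | tmul b x =>
    have hb : b ⊗ₜ[R] x = b • ((1 : B) ⊗ₜ[R] x) := by
      rw [TensorProduct.smul_tmul', smul_eq_mul, _root_.mul_one]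
    rw [theta_tmul, hb, map_smul, formula]
  | add x y hx hy => simp only [map_add, hx, hy]

lemma deltaOf_counit :
    (CoalgebraStruct.counit (R := R) (A := A)).lTensor E ∘ₗ deltaOf m =
      (TensorProduct.mk R E R).flip 1 := by
  ext x
  have h := formula m R
    (1 : VecGrp.pt R R ⟶ ((Spec (CommRingCat.of A)).asOver (Spec (CommRingCat.of R)))) x
  rw [map_one, fOf_one, sw_one] at h
  have h2 : (Algebra.linearMap R R) = LinearMap.id := by ext; simp
  rw [h2, LinearMap.lTensor_id] at h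
  have h3 := congrArg (TensorProduct.comm R E R).symm h
  rw [LinearEquiv.symm_apply_apply] at h3
  show (CoalgebraStruct.counit (R := R) (A := A)).lTensor E (deltaOf m x) = x ⊗ₜ[R] (1 : R)
  exact h3.symm

lemma deltaOf_coassoc :
    (TensorProduct.assoc R E A A).toLinearMap ∘ₗ (deltaOf m).rTensor A ∘ₗ deltaOf m =
      (CoalgebraStruct.comul (R := R) (A := A)).lTensor E ∘ₗ deltaOf m := by
  ext x
  have h := formula m (A ⊗[R] A)
    (gOf (Algebra.TensorProduct.includeLeft : A →ₐ[R] A ⊗[R] A) *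
      gOf (Algebra.TensorProduct.includeRight : A →ₐ[R] A ⊗[R] A)) x
  rw [fOf_mul, fOf_gOf, fOf_gOf, sw_mul, Algebra.TensorProduct.lift_includeLeft_includeRight,
    sw_id, map_mul] at h
  have h' : (m.ρ (A ⊗[R] A) (gOf (Algebra.TensorProduct.includeLeft : A →ₐ[R] A ⊗[R] A)) *
      m.ρ (A ⊗[R] A) (gOf (Algebra.TensorProduct.includeRight : A →ₐ[R] A ⊗[R] A)))
        ((1 : A ⊗[R] A) ⊗ₜ[R] x) =
      m.ρ (A ⊗[R] A) (gOf (Algebra.TensorProduct.includeLeft : A →ₐ[R] A ⊗[R] A))
        (m.ρ (A ⊗[R] A) (gOf (Algebra.TensorProduct.includeRight : A →ₐ[R] A ⊗[R] A))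
          ((1 : A ⊗[R] A) ⊗ₜ[R] x)) := rfl
  rw [h', formula m, rho_eq_theta m, fOf_gOf, fOf_gOf, theta_sw,
    Algebra.TensorProduct.lift_includeLeft_includeRight, sw_id] at h
  exact (TensorProduct.comm R E (A ⊗[R] A)).injective h

lemma delta_unique (δ' : E →ₗ[R] E ⊗[R] A)
    (h : ∀ (B : Type u) [CommRing B] [Algebra R B]
      (g : VecGrp.pt R B ⟶ ((Spec (CommRingCat.of A)).asOver (Spec (CommRingCat.of R)))) (x : E),
       m.ρ B g ((1 : B) ⊗ₜ[R] x) = sw (fOf g) (δ' x)) : δ' = deltaOf m := by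
  refine LinearMap.ext fun x => ?_
  have h1 := h A (gOf (AlgHom.id R A)) x
  rw [fOf_gOf, sw_id] at h1
  rw [deltaOf_apply, h1, comm_comm']

end Part2

/-- S6094 -/
theorem main (R : Type u) [CommRing R] (A : Type u) [CommRing A] [HopfAlgebra R A]
    (E : Type u) [AddCommGroup E] [Module R E] :
    (∀ [HopfRep.Comod R A E], ∃! m : VecGrp.GMod ((Spec (CommRingCat.of A)).asOver (Spec (CommRingCat.of R))) E,
        (∀ (B : Type u) [CommRing B] [Algebra R B] (g : VecGrp.pt R B ⟶ ((Spec (CommRingCat.of A)).asOver (Spec (CommRingCat.of R)))) (x : E),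
          m.ρ B g ((1 : B) ⊗ₜ[R] x) =
            (TensorProduct.comm R E B) (LinearMap.lTensor E (Spec.mapMulEquiv.symm g).ofConv.toLinearMap (HopfRep.Comod.coact (k := R) (A := A) x)))) ∧
    (∀ m : VecGrp.GMod ((Spec (CommRingCat.of A)).asOver (Spec (CommRingCat.of R))) E, ∃! δ : E →ₗ[R] E ⊗[R] A,
        ((TensorProduct.assoc R E A A).toLinearMap ∘ₗ δ.rTensor A ∘ₗ δ =
            (CoalgebraStruct.comul (R := R) (A := A)).lTensor E ∘ₗ δ ∧
          (CoalgebraStruct.counit (R := R) (A := A)).lTensor E ∘ₗ δ = (TensorProduct.mk R E R).flip 1) ∧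
        (∀ (B : Type u) [CommRing B] [Algebra R B] (g : VecGrp.pt R B ⟶ ((Spec (CommRingCat.of A)).asOver (Spec (CommRingCat.of R)))) (x : E),
          m.ρ B g ((1 : B) ⊗ₜ[R] x) =
            (TensorProduct.comm R E B) (LinearMap.lTensor E (Spec.mapMulEquiv.symm g).ofConv.toLinearMap (δ x)))) := by
  refine ⟨?_, ?_⟩
  · intro inst
    refine ⟨mkGMod (HopfRep.Comod.coact (k := R) (A := A)) HopfRep.Comod.coassoc
      HopfRep.Comod.counit_comp, ?_, ?_⟩
    · intro B _ _ g x
      show theta _ (fOf g) ((1 : B) ⊗ₜ[R] x) = sw (fOf g) _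
      rw [theta_tmul, one_smul]
    · intro m' hm'
      apply GMod_ext
      intro B _ _ g x
      rw [hm' B g x]
      show _ = theta _ (fOf g) ((1 : B) ⊗ₜ[R] x)
      rw [theta_tmul, one_smul]
      rfl
  · intro m
    refine ⟨deltaOf m, ⟨⟨deltaOf_coassoc m, deltaOf_counit m⟩, fun B _ _ g x => formula m B g x⟩, ?_⟩
    rintro δ' ⟨-, hδ'⟩
    exact delta_unique m δ' (fun B _ _ g x => hδ' B g x)

end Hopf

end Groth.Agent.H1.GModComod
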